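import Groth.Agent.SSMod.K755.Plan5
import Mathlib.AlgebraicGeometry.Fiber
import Mathlib.Topology.NoetherianSpace

/-!
# FINGEN: non-closed points of the fibres of a relative curve over a finite base
-/

set_option autoImplicit false
universe u
open CategoryTheory CategoryTheory.Limits AlgebraicGeometry TopologicalSpace

namespace K469.FinGen

/-- In a sober-type space all of whose irreducible components have dimension one, the closure of a point with a proper
specialization is an irreducible component. -/
theorem closure_mem {T : Type u} [TopologicalSpace T] [T0Space T]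
    (h : ∀ Z ∈ irreducibleComponents T, topologicalKrullDim Z = (1 : ℕ)) {z z' : T} (hz : z ⤳ z') (hne : z' ≠ z) :
    closure {z} ∈ irreducibleComponents T := by
  have hirr : IsIrreducible (closure ({z} : Set T)) := isIrreducible_singleton.closure
  obtain ⟨Z, hZ, hle⟩ : ∃ Z ∈ irreducibleComponents T, closure {z} ⊆ Z := by
    obtain ⟨Z, hZ, h1⟩ := exists_mem_irreducibleComponents_subset_of_isIrreducible _ hirr
    exact ⟨Z, hZ, h1⟩
  by_contra hcon
  have hne2 : closure {z} ≠ Z := fun h0 => hcon (h0 ▸ hZ)
  have hzZ : z ∈ Z := hle (subset_closure rfl)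
  have hz'Z : z' ∈ Z := hle (specializes_iff_mem_closure.1 hz)
  have hZc : IsClosed Z := isClosed_of_mem_irreducibleComponents Z hZ
  let t : Z := ⟨z, hzZ⟩
  let t' : Z := ⟨z', hz'Z⟩
  have htt' : t ⤳ t' := Topology.IsInducing.subtypeVal.specializes_iff.1 hz
  let a0 : IrreducibleCloseds Z := ⟨closure {t'}, isIrreducible_singleton.closure, isClosed_closure⟩
  let a1 : IrreducibleCloseds Z := ⟨closure {t}, isIrreducible_singleton.closure, isClosed_closure⟩
  have : IrreducibleSpace Z := by
    rw [← isIrreducible_iff_irreducibleSpace]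
    exact hZ.1
  let a2 : IrreducibleCloseds Z := ⟨Set.univ, IrreducibleSpace.isIrreducible_univ Z, isClosed_univ⟩
  have h01 : a0 < a1 := by
    refine lt_of_le_of_ne ?_ fun h0 => hne ?_
    · change closure {t'} ⊆ closure {t}
      exact htt'.closure_subset
    · have h1 : (closure {t'} : Set Z) = closure {t} := congrArg IrreducibleCloseds.carrier h0
      have h2 : t' ⤳ t := specializes_iff_mem_closure.2 (by rw [h1]; exact subset_closure rfl)
      exact congrArg Subtype.val (h2.antisymm htt').eq
  have h12 : a1 < a2 := by
    refine lt_of_le_of_ne (fun _ _ => trivial) fun h0 => hne2 ?_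
    have h1 : (closure {t} : Set Z) = Set.univ := congrArg IrreducibleCloseds.carrier h0
    refine Set.Subset.antisymm hle fun y hy => ?_
    have h2 : t ⤳ (⟨y, hy⟩ : Z) := specializes_iff_mem_closure.2 (by rw [h1]; trivial)
    exact specializes_iff_mem_closure.1 (Topology.IsInducing.subtypeVal.specializes_iff.2 h2)
  let s : LTSeries (IrreducibleCloseds Z) :=
    ((RelSeries.singleton _ a2).cons a1 h12).cons a0 (by rw [RelSeries.head_cons]; exact h01)
  have h3 : ((2 : ℕ) : WithBot ℕ∞) ≤ topologicalKrullDim Z := Order.LTSeries.length_le_krullDim s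
  rw [h Z hZ] at h3
  exact absurd (by exact_mod_cast h3 : (2 : ℕ) ≤ 1) (by decide)

/-- **FINGEN.** -/
theorem main : K755.SSPlan.FinGen.{u} := by
  intro X S _ p _ _ hd
  let A : ∀ s : S, Set ↥(p.fiber s) := fun s => {z | closure {z} ∈ irreducibleComponents ↥(p.fiber s)}
  have hA : ∀ s, (A s).Finite := by
    intro s
    have h1 : LocallyOfFiniteType (p.fiberToSpecResidueField s) :=
      MorphismProperty.pullback_snd (P := @LocallyOfFiniteType) _ _ inferInstance
    have h2 : QuasiCompact (p.fiberToSpecResidueField s) := inferInstance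
    have h3 : IsLocallyNoetherian (p.fiber s) := LocallyOfFiniteType.isLocallyNoetherian (p.fiberToSpecResidueField s)
    have h4 : CompactSpace (p.fiber s) := QuasiCompact.compactSpace_of_compactSpace (p.fiberToSpecResidueField s)
    have h5 : IsNoetherian (p.fiber s) := {}
    have h6 : NoetherianSpace (p.fiber s) := inferInstance
    have h7 : (irreducibleComponents ↥(p.fiber s)).Finite := NoetherianSpace.finite_irreducibleComponents
    refine Set.Finite.of_finite_image (h7.subset ?_) (f := fun z => closure {z}) ?_
    · rintro _ ⟨z, hz, rfl⟩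
      exact hz
    · intro z _ w _ hzw
      have h8 : (closure {z} : Set _) = closure {w} := hzw
      exact (Specializes.antisymm (specializes_iff_mem_closure.2 (by rw [h8]; exact subset_closure rfl))
        (specializes_iff_mem_closure.2 (by rw [← h8]; exact subset_closure rfl))).eq
  refine (Set.finite_iUnion fun s => (hA s).image (p.fiberι s)).subset ?_
  rintro x ⟨x', hxx', hne, hp⟩
  refine Set.mem_iUnion.2 ⟨p x, p.asFiber x, ?_, p.fiberι_asFiber x⟩
  have hx' : x' ∈ Set.range (p.fiberι (p x)) := by
    rw [p.range_fiberι]
    exact hp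
  obtain ⟨z', hz'⟩ := hx'
  have h1 : p.asFiber x ⤳ z' := by
    rw [← (p.fiberι (p x)).isEmbedding.specializes_iff, p.fiberι_asFiber, hz']
    exact hxx'
  refine closure_mem (hd (p x)) h1 ?_
  rintro rfl
  exact hne (by rw [← hz', p.fiberι_asFiber])

end K469.FinGen
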